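import Groth.Agent.Lib.HensConn25.Basic
import Groth.Agent.S1366

/-!
# Restriction to the closed fibre of a proper scheme over a henselian pair is fully faithful
-/

open CategoryTheory Limits AlgebraicGeometry TopologicalSpace

set_option autoImplicit false
set_option linter.style.haveILetI false
set_option backward.isDefEq.respectTransparency false

namespace Groth.Agent.HensConn25

universe u

variable (A : Type u) [CommRing A] (I : Ideal A) [HenselianRing A I]

/-- Full faithfulness of restriction to the closed fibre. -/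
theorem fullyFaithful_closedFibre {X : Scheme.{u}} (f : X ⟶ Spec (CommRingCat.of A)) [IsProper f] :
    (FEt.restrict (pullback.fst f (Spec.map (CommRingCat.ofHom (Ideal.Quotient.mk I))))).Full ∧
      (FEt.restrict (pullback.fst f (Spec.map (CommRingCat.ofHom (Ideal.Quotient.mk I))))).Faithful := by
  let q := Spec.map (CommRingCat.ofHom (Ideal.Quotient.mk I))
  have hq : Set.range q = PrimeSpectrum.zeroLocus (I : Set A) :=
    (_root_.range_comap_of_surjective _ _ Ideal.Quotient.mk_surjective).trans (by rw [Ideal.mk_ker])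
  have hT : ∀ S : Set X, IsClopen S → S.Nonempty → (S ∩ Set.range (pullback.fst f q)).Nonempty := by
    intro S hS hne
    have hcl : IsClosed (f '' S) := f.isClosedMap _ hS.1
    obtain ⟨J, hJ⟩ := (PrimeSpectrum.isClosed_iff_zeroLocus_ideal _).1 hcl
    have hJne : J ≠ ⊤ := fun h => by
      rw [h, Submodule.top_coe, PrimeSpectrum.zeroLocus_univ] at hJ
      exact (hne.image f).ne_empty hJ
    obtain ⟨M, hM, hle⟩ := Ideal.exists_le_maximal J hJne
    let p : PrimeSpectrum A := ⟨M, hM.isPrime⟩
    have hp : p ∈ f '' S := by rw [hJ]; exact hle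
    obtain ⟨x, hxS, hx⟩ := hp
    have hpq : p ∈ Set.range q := by
      rw [hq]
      exact le_trans (‹HenselianRing A I›.jac) (sInf_le ⟨bot_le, hM⟩)
    obtain ⟨a, ha⟩ := hpq
    obtain ⟨r, hr, -⟩ := Scheme.Pullback.exists_preimage_pullback (f := f) (g := q) x a (hx.trans ha.symm)
    exact ⟨x, hxS, r, hr⟩
  refine ⟨FEtEq25.full_restrict _ hT fun {Z} h hh C hC => ?_, FEtEq25.faithful_restrict _ hT⟩
  haveI : IsFinite h := hh.1
  let e := pullbackRightPullbackFstIso f q h
  haveI : IsProper (h ≫ f) := inferInstance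
  let C' : (pullback (h ≫ f) q).Opens := ⟨e.inv ⁻¹' C, hC.2.preimage e.inv.continuous⟩
  have hC'c : IsClosed (C' : Set ↥(pullback (h ≫ f) q)) := hC.1.preimage e.inv.continuous
  haveI : IsClosedImmersion C'.ι := IsClosedImmersion.of_isPreimmersion _ (by
    rw [Scheme.Opens.range_ι]; exact hC'c)
  obtain ⟨W, hW, -, hWC⟩ := S1366.result I (h ≫ f) C' hC'c inferInstance
  refine ⟨W, ⟨hW, W.2⟩, ?_⟩
  ext x
  have h1 := congrArg (fun s : (pullback (h ≫ f) q).Opens => e.hom x ∈ s) hWC
  simp only [eq_iff_iff] at h1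
  change (pullback.fst (h ≫ f) q (e.hom x) ∈ (W : Set Z)) ↔ e.inv (e.hom x) ∈ C at h1
  rw [← Scheme.Hom.comp_apply, ← Scheme.Hom.comp_apply, e.hom_inv_id] at h1
  rw [show e.hom ≫ pullback.fst (h ≫ f) q = pullback.fst h (pullback.fst f q) from
    pullbackRightPullbackFstIso_hom_fst f q h] at h1
  exact h1

end Groth.Agent.HensConn25
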