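import Groth.Agent.Lib.FEtEq25.Graph
import Groth.Agent.S17971
import Mathlib.RingTheory.AdicCompletion.Basic

/-!
# Pullback from a henselian local ring to a proper scheme with connected geometric closed fibre
-/

open CategoryTheory Limits AlgebraicGeometry TopologicalSpace IsLocalRing

set_option autoImplicit false
set_option linter.style.haveILetI false
set_option backward.isDefEq.respectTransparency false

namespace Groth.Agent.HensConn25

universe u

variable {A : Type u} [CommRing A] [IsLocalRing A]

/-- Nonempty closed subsets of the spectrum of a local ring contain the closed point. -/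
theorem closedPoint_mem {S : Set ↥(Spec (CommRingCat.of A))} (hS : IsClosed S) {x : ↥(Spec (CommRingCat.of A))}
    (hx : x ∈ S) : closedPoint A ∈ S :=
  (IsLocalRing.specializes_closedPoint (R := A) x).mem_closed hS hx

/-- Pulling finite étale covers back to a proper scheme with connected geometric closed fibre is fully faithful. -/
theorem fullyFaithful_of_geomClosedFibre [HenselianRing A (maximalIdeal A)] {X : Scheme.{u}}
    (f : X ⟶ Spec (CommRingCat.of A)) [IsProper f] {K : Type u} [Field K] [IsAlgClosed K]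
    (ξ : Spec (CommRingCat.of K) ⟶ Spec (CommRingCat.of A)) (hξ : ξ (closedPoint K) = closedPoint A)
    [ConnectedSpace ↥(pullback f ξ)] : (FEt.restrict f).Full ∧ (FEt.restrict f).Faithful := by
  have hT : ∀ S : Set ↥(Spec (CommRingCat.of A)), IsClopen S → S.Nonempty → (S ∩ Set.range f).Nonempty := by
    rintro S hS ⟨x, hx⟩
    let p : ↥(pullback f ξ) := Classical.arbitrary _
    refine ⟨closedPoint A, closedPoint_mem hS.1 hx, pullback.fst f ξ p, ?_⟩
    rw [← Scheme.Hom.comp_apply, pullback.condition, Scheme.Hom.comp_apply,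
      Subsingleton.elim (α := PrimeSpectrum K) (pullback.snd f ξ p) (closedPoint K), hξ]
  refine ⟨FEtEq25.full_restrict f hT fun {Z} h hh C hC => ?_, FEtEq25.faithful_restrict f hT⟩
  haveI : IsFinite h := hh.1
  let π := pullback.fst h f
  let q := Spec.map (CommRingCat.ofHom (Ideal.Quotient.mk (maximalIdeal A)))
  letI : Field (A ⧸ maximalIdeal A) := Ideal.Quotient.field _
  haveI : Subsingleton ↥(Spec (CommRingCat.of (A ⧸ maximalIdeal A))) :=
    inferInstanceAs (Subsingleton (PrimeSpectrum (A ⧸ maximalIdeal A)))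
  haveI : JacobsonSpace ↥(Spec (CommRingCat.of (A ⧸ maximalIdeal A))) :=
    inferInstanceAs (JacobsonSpace (PrimeSpectrum (A ⧸ maximalIdeal A)))
  haveI : JacobsonSpace ↥(pullback h q) := LocallyOfFiniteType.jacobsonSpace (pullback.snd h q)
  haveI : Finite ↥(pullback h q) := by
    have h' : (pullback.snd h q ⁻¹' {closedPoint (A ⧸ maximalIdeal A)}).Finite :=
      (pullback.snd h q).finite_preimage_singleton _
    exact Set.finite_univ_iff.1 (h'.subset fun x _ => Subsingleton.elim _ _)
  let E : Set Z := {z | ∃ p ∈ C, π p = z}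
  obtain ⟨D, ⟨hD, hDE⟩, -⟩ := (S17971.result A (maximalIdeal A)).1 inferInstance Z h inferInstance
    ((pullback.fst h q) ⁻¹' E) (isClopen_discrete _)
  refine ⟨D, hD, ?_⟩
  -- agreement over the closed point
  have key : ∀ p, h (π p) = closedPoint A → (π p ∈ D ↔ p ∈ C) := by
    intro p hp
    have hq : closedPoint A ∈ Set.range q := by
      refine ⟨closedPoint (A ⧸ maximalIdeal A), ?_⟩
      exact PrimeSpectrum.ext (by
        show Ideal.comap (Ideal.Quotient.mk (maximalIdeal A)) (maximalIdeal (A ⧸ maximalIdeal A)) = maximalIdeal A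
        rw [maximalIdeal_eq_bot, ← RingHom.ker_eq_comap_bot, Ideal.mk_ker])
    obtain ⟨a, ha⟩ := hq
    obtain ⟨r, hr, -⟩ := Scheme.Pullback.exists_preimage_pullback (f := h) (g := q) (π p) a (hp.trans ha.symm)
    have h1 : π p ∈ D ↔ π p ∈ E := by
      have h2 := congrArg (fun s => r ∈ s) hDE
      simp only [Set.mem_preimage, eq_iff_iff] at h2
      rwa [hr] at h2
    refine h1.trans ⟨?_, fun hpC => ⟨p, hpC, rfl⟩⟩
    rintro ⟨p₀, hp₀, heq⟩
    obtain ⟨s, hs, hspt⟩ := FEtEq25.exists_fiber_point ξ h (π p) (hp.trans hξ.symm)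
    haveI : PreconnectedSpace ↥(pullback f (s ≫ h)) := by rw [hs]; infer_instance
    exact FEtEq25.fibre_subset_or_disjoint f h s hC (heq.trans hspt.symm) hspt.symm hp₀
  -- propagate by properness
  by_contra hne
  have hne' : ((π ⁻¹' D \ C) ∪ (C \ π ⁻¹' D)).Nonempty := by
    rw [Set.nonempty_iff_ne_empty]
    intro hemp
    rw [Set.union_empty_iff, Set.sdiff_eq_empty, Set.sdiff_eq_empty] at hemp
    exact hne (Set.Subset.antisymm hemp.1 hemp.2)
  have hclosed : IsClosed ((π ⁻¹' D \ C) ∪ (C \ π ⁻¹' D)) :=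
    (((hD.preimage π.continuous).diff hC).union (hC.diff (hD.preimage π.continuous))).1
  haveI : UniversallyClosed (π ≫ h) := by
    haveI : UniversallyClosed π := MorphismProperty.pullback_fst _ _ (inferInstanceAs (UniversallyClosed f))
    infer_instance
  obtain ⟨p₀, hp₀⟩ := hne'
  obtain ⟨p, hp, hpA⟩ := closedPoint_mem ((π ≫ h).isClosedMap _ hclosed) ⟨p₀, hp₀, rfl⟩
  rw [Scheme.Hom.comp_apply] at hpA
  rcases hp with ⟨h1, h2⟩ | ⟨h1, h2⟩
  · exact h2 ((key p hpA).1 h1)
  · exact h2 ((key p hpA).2 h1)

end Groth.Agent.HensConn25
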