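import Groth.Agent.Lib.HensConn25.Basic
import Groth.Agent.Lib.AlgClosedExt25.SepClosed
import Groth.Agent.Lib.FEtLimit25.Field
import Mathlib.FieldTheory.IsSepClosed

/-!
# Connected covers split over the algebraic closure come from the ground field
-/

open CategoryTheory Limits AlgebraicGeometry TopologicalSpace

set_option autoImplicit false
set_option linter.style.haveILetI false
set_option backward.isDefEq.respectTransparency false

namespace Groth.Agent.HensConn25

universe u

/-- A connected cover with a section over the algebraic closure comes from the field. -/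
theorem essImage_of_section_algClosure (k : Type u) [Field k] {X : Scheme.{u}} (f : X ⟶ Spec (CommRingCat.of k))
    [IsProper f] [ConnectedSpace ↥(pullback f (Spec.map (CommRingCat.ofHom (algebraMap k (AlgebraicClosure k)))))]
    (X' : FEt.Cat X) [ConnectedSpace X'.left]
    (σ : pullback f (Spec.map (CommRingCat.ofHom (algebraMap k (AlgebraicClosure k)))) ⟶ X'.left)
    (hσ : σ ≫ X'.hom = pullback.fst f (Spec.map (CommRingCat.ofHom (algebraMap k (AlgebraicClosure k))))) :
    (FEt.restrict f).essImage X' := by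
  let Ks := separableClosure k (AlgebraicClosure k)
  let γ := Spec.map (CommRingCat.ofHom (algebraMap k (AlgebraicClosure k)))
  let s := Spec.map (CommRingCat.ofHom (algebraMap k Ks))
  let π := Spec.map (CommRingCat.ofHom (algebraMap Ks (AlgebraicClosure k)))
  have hπs : π ≫ s = γ := by
    simp only [π, s, γ, ← Spec.map_comp, ← CommRingCat.ofHom_comp, ← IsScalarTower.algebraMap_eq]
  let pr : pullback f γ ⟶ pullback f s := pullback.lift (pullback.fst f γ) (pullback.snd f γ ≫ π)
    (by rw [Category.assoc, hπs, pullback.condition])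
  have hpr : IsPullback pr (pullback.snd f γ) (pullback.snd f s) π := by
    refine IsPullback.of_right ?_ (pullback.lift_snd _ _ _) (IsPullback.of_hasPullback f s)
    rw [pullback.lift_fst, hπs]
    exact IsPullback.of_hasPullback f γ
  haveI := AlgClosedExt25.isEquivalence_fst_of_purelyInseparable Ks (AlgebraicClosure k) pr _ _ hpr
  let x' : X'.left ⟶ X := X'.hom
  haveI : IsFinite x' := X'.prop.1
  haveI : Etale x' := X'.prop.2
  let T₀ : FEt.Cat (pullback f s) := MorphismProperty.Over.mk ⊤ (𝟙 (pullback f s)) ⟨inferInstance, inferInstance⟩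
  let X's := (FEt.restrict (pullback.fst f s)).obj X'
  have hl : (pullback.snd (𝟙 (pullback f s)) pr ≫ σ) ≫ x' =
      (pullback.snd (𝟙 (pullback f s)) pr ≫ pr) ≫ pullback.fst f s := by
    rw [Category.assoc, show σ ≫ x' = pullback.fst f γ from hσ, Category.assoc, pullback.lift_fst]
  let σ' : (FEt.restrict pr).obj T₀ ⟶ (FEt.restrict pr).obj X's := MorphismProperty.Over.homMk
    (pullback.lift (pullback.lift _ _ hl) (pullback.snd (𝟙 (pullback f s)) pr) (pullback.lift_snd _ _ _))
    (pullback.lift_snd _ _ _)
  let τ₀ := (FEt.restrict pr).preimage σ'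
  let τ₁ : pullback f s ⟶ X'.left := τ₀.left ≫ pullback.fst x' (pullback.fst f s)
  have hτ₁ : τ₁ ≫ x' = pullback.fst f s := by
    have h : τ₀.left ≫ pullback.snd x' (pullback.fst f s) = 𝟙 _ := MorphismProperty.Over.w τ₀
    simp only [τ₁, Category.assoc, pullback.condition, reassoc_of% h]
  haveI : CompactSpace X := QuasiCompact.compactSpace_of_compactSpace f
  haveI : QuasiSeparatedSpace X := quasiSeparatedSpace_of_quasiSeparated f
  obtain ⟨L, _, τ, c, -, hτ, -⟩ := FEtLimit25.exists_hom_field k Ks f x' τ₁ hτ₁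
  haveI : Algebra.IsSeparable k L := Algebra.isSeparable_tower_bot_of_isSeparable k L Ks
  obtain ⟨h1, h2⟩ := FEtLimit25.isFinite_etale_of_separable k L
  let l := Spec.map (CommRingCat.ofHom (algebraMap k L))
  let T : FEt.Cat (Spec (CommRingCat.of k)) := MorphismProperty.Over.mk ⊤ l ⟨h1, h2⟩
  have hm : ((pullbackSymmetry l f).hom ≫ τ) ≫ x' = pullback.snd l f := by
    rw [Category.assoc, hτ, pullbackSymmetry_hom_comp_fst]
  let m : (FEt.restrict f).obj T ⟶ X' := MorphismProperty.Over.homMk ((pullbackSymmetry l f).hom ≫ τ) hm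
  -- Galois categories
  haveI : HenselianRing k (IsLocalRing.maximalIdeal k) := by
    rw [IsLocalRing.maximalIdeal_eq_bot]
    exact IsAdicComplete.henselianRing k ⊥
  have hcp : (γ (IsLocalRing.closedPoint (AlgebraicClosure k))) = IsLocalRing.closedPoint k :=
    Subsingleton.elim (α := PrimeSpectrum k) _ _
  have hff := fullyFaithful_of_geomClosedFibre f γ hcp
  haveI : Surjective γ := ⟨fun y => ⟨IsLocalRing.closedPoint _, Subsingleton.elim (α := PrimeSpectrum k) _ _⟩⟩
  haveI : Surjective (pullback.fst f γ) := MorphismProperty.pullback_fst _ _ ‹Surjective γ›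
  haveI : ConnectedSpace X := (pullback.fst f γ).surjective.connectedSpace (pullback.fst f γ).continuous
  haveI : ConnectedSpace ↥(Spec (CommRingCat.of k)) := inferInstanceAs (ConnectedSpace (PrimeSpectrum k))
  obtain ⟨K, _, _, x, -⟩ := FEtEq25.exists_geomPoint (W := Spec (CommRingCat.of k)) (Classical.arbitrary _)
  obtain ⟨K', _, _, z, -⟩ := FEtEq25.exists_geomPoint (W := X) (Classical.arbitrary X)
  haveI : GaloisCategory (FEt.Cat (Spec (CommRingCat.of k))) :=
    { hasFiberFunctor := ⟨FEtEq25.fiberFin x, ⟨FEtEq25.fiberFunctor x⟩⟩ }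
  haveI := FEtEq25.fiberFunctor z
  haveI : GaloisCategory (FEt.Cat X) := { hasFiberFunctor := ⟨FEtEq25.fiberFin z, ⟨FEtEq25.fiberFunctor z⟩⟩ }
  haveI := FEtLimit25.isConnected_of_connectedSpace X'
  haveI := FEtEq25.preservesFiniteLimits_restrict f
  haveI := FEtEq25.preservesFiniteColimits_restrict f
  haveI : IsFinite l := h1
  haveI : Surjective l := ⟨fun y => ⟨(default : PrimeSpectrum L), Subsingleton.elim (α := PrimeSpectrum k) _ _⟩⟩
  let p : pullback l f ⟶ X := pullback.snd l f
  haveI : IsFinite p := MorphismProperty.pullback_snd _ _ ‹IsFinite l›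
  haveI : Surjective p := MorphismProperty.pullback_snd _ _ ‹Surjective l›
  obtain ⟨b, hb⟩ := p.surjective (z (IsLocalRing.closedPoint K'))
  obtain ⟨v, hv, -⟩ := FEtEq25.exists_fiber_point z p b hb
  exact FEtLimit25.mem_essImage_of_dominated (FEt.restrict f) hff (FEtEq25.fiberFin z) m ⟨v, hv⟩

end Groth.Agent.HensConn25
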