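import Groth.Agent.Lib.HensConn25.ClosedFibre
import Groth.Agent.Lib.HensConn25.Field
import Groth.Agent.Lib.LimH13.ArrowModel
import Groth.Agent.S0239
import Groth.Agent.S17963

/-!
# Connected covers split over the geometric closed fibre come from the henselian base
-/

open CategoryTheory Limits AlgebraicGeometry TopologicalSpace IsLocalRing

set_option autoImplicit false
set_option linter.style.haveILetI false
set_option backward.isDefEq.respectTransparency false

namespace Groth.Agent.HensConn25

universe u

/-- A connected cover with a section over the geometric closed fibre comes from the base. -/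
theorem essImage_of_section_closedFibre (A : Type u) [CommRing A] [IsNoetherianRing A] [IsLocalRing A]
    [HenselianRing A (maximalIdeal A)] {X : Scheme.{u}} (f : X ⟶ Spec (CommRingCat.of A)) [IsProper f]
    (ξ : Spec (CommRingCat.of (AlgebraicClosure (ResidueField A))) ⟶ Spec (CommRingCat.of A))
    (hξ : ξ = Spec.map (CommRingCat.ofHom ((algebraMap (ResidueField A)
      (AlgebraicClosure (ResidueField A))).comp (residue A))))
    [ConnectedSpace ↥(pullback f ξ)] (X' : FEt.Cat X) [ConnectedSpace X'.left]
    (σ : pullback f ξ ⟶ X'.left) (hσ : σ ≫ X'.hom = pullback.fst f ξ) :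
    (FEt.restrict f).essImage X' := by
  let q : Spec (CommRingCat.of (ResidueField A)) ⟶ Spec (CommRingCat.of A) :=
    Spec.map (CommRingCat.ofHom (residue A))
  let γ := Spec.map (CommRingCat.ofHom (algebraMap (ResidueField A) (AlgebraicClosure (ResidueField A))))
  have hqγ : γ ≫ q = ξ := by
    rw [hξ, ← Spec.map_comp, ← CommRingCat.ofHom_comp]
  let i := pullback.fst f q
  let f₀ := pullback.snd f q
  let x' : X'.left ⟶ X := X'.hom
  haveI : IsFinite x' := X'.prop.1
  haveI : IsProper (x' ≫ f) := inferInstance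
  haveI : LocallyOfFinitePresentation (x' ≫ f) := LimH13.locallyOfFinitePresentation_of_noetherian (x' ≫ f)
  haveI : ConnectedSpace ↥(pullback (x' ≫ f) q) :=
    (S17963.result A (maximalIdeal A) (x' ≫ f)).1 inferInstance
  let X₀ := (FEt.restrict i).obj X'
  let e₁ := pullbackRightPullbackFstIso f q x'
  haveI : ConnectedSpace X₀.left :=
    e₁.inv.surjective.connectedSpace e₁.inv.continuous
  let e₂ : pullback f₀ γ ≅ pullback f ξ := pullbackLeftPullbackSndIso f q γ ≪≫ pullback.congrHom rfl hqγ
  haveI : ConnectedSpace ↥(pullback f₀ γ) := e₂.inv.surjective.connectedSpace e₂.inv.continuous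
  have he₂ : e₂.hom ≫ pullback.fst f ξ = pullback.fst f₀ γ ≫ i := by simp [e₂, i, f₀]
  have hl : (e₂.hom ≫ σ) ≫ x' = pullback.fst f₀ γ ≫ i := by
    rw [Category.assoc, show σ ≫ x' = pullback.fst f ξ from hσ, he₂]
  obtain ⟨T₀, ⟨e₀⟩⟩ := essImage_of_section_algClosure (ResidueField A) f₀ X₀ (pullback.lift _ _ hl)
    (pullback.lift_snd _ _ _)
  haveI : (FEt.restrict q).IsEquivalence := S0239.result A (maximalIdeal A)
  obtain ⟨T, ⟨eT⟩⟩ := Functor.EssSurj.mem_essImage (FEt.restrict q) T₀
  obtain ⟨hfull, hfaith⟩ := fullyFaithful_closedFibre A (maximalIdeal A) f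
  haveI : (FEt.restrict i).Full := hfull
  haveI : (FEt.restrict i).Faithful := hfaith
  exact ⟨T, ⟨(FEt.restrict i).preimageIso
    (AlgClosedExt25.restrictSquare i f f₀ q pullback.condition T ≪≫ (FEt.restrict f₀).mapIso eT ≪≫ e₀)⟩⟩

end Groth.Agent.HensConn25
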